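import Mathlib

/-! # The number of automorphisms of a finite field -/

set_option autoImplicit false

namespace Cfsg.Agent.H166.FieldAut

/-- A field with `p ^ n` elements has `n` automorphisms. -/
theorem card_ringAut {K : Type*} [Field K] [Fintype K] (p n : ℕ) [Fact p.Prime] [CharP K p]
    (hK : Fintype.card K = p ^ n) : Nat.card (K ≃+* K) = n := by
  letI : Algebra (ZMod p) K := ZMod.algebra K p
  have e : (K ≃+* K) ≃ (K ≃ₐ[ZMod p] K) :=
    { toFun := fun τ => AlgEquiv.ofRingEquiv (f := τ) (fun r => by
        have : (τ : K →+* K).comp (algebraMap (ZMod p) K) = algebraMap (ZMod p) K := Subsingleton.elim _ _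
        exact congrArg (fun g : ZMod p →+* K => g r) this)
      invFun := fun τ => τ.toRingEquiv
      left_inv := fun τ => by ext; rfl
      right_inv := fun τ => by ext; rfl }
  rw [Nat.card_congr e, IsGalois.card_aut_eq_finrank]
  have h1 := Module.card_eq_pow_finrank (K := ZMod p) (V := K)
  rw [hK, ZMod.card] at h1
  exact (Nat.pow_right_injective (Fact.out : p.Prime).two_le h1).symm

end Cfsg.Agent.H166.FieldAut
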